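import Mathlib
import Cfsg.Agent.Lib.Classical.SylowWreathEmbed
import Cfsg.Agent.Lib.Classical.Linear

/-!
A Sylow two-subgroup of `GL_n` as a block monomial group, and the sign subgroup inside it.
-/

set_option autoImplicit false
set_option linter.unusedSectionVars false

namespace Cfsg.Agent.Classical.NormalRank

open Cfsg.Agent.Classical.WreathSq

section Aut

variable {F U : Type*} [Field F] [AddCommGroup U] [Module F U]

/-- Transport of linear automorphisms along an isomorphism. -/
def conjAut {W : Type*} [AddCommGroup W] [Module F W] (e : U ≃ₗ[F] W) :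
    (U ≃ₗ[F] U) ≃* (W ≃ₗ[F] W) where
  toFun φ := (e.symm.trans φ).trans e
  invFun φ := (e.trans φ).trans e.symm
  left_inv φ := by ext; simp
  right_inv φ := by ext; simp
  map_mul' φ ψ := by
    apply LinearEquiv.ext
    intro x
    simp [LinearEquiv.mul_apply]

/-- Linear automorphisms of a space of dimension `d` as matrices. -/
noncomputable def autGL [FiniteDimensional F U] {d : ℕ} (h : Module.finrank F U = d) :
    (U ≃ₗ[F] U) ≃* GL (Fin d) F :=
  (conjAut (LinearEquiv.ofFinrankEq U (Fin d → F) (by rw [h, Module.finrank_fin_fun]))).trans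
    ((LinearMap.GeneralLinearGroup.generalLinearEquiv F (Fin d → F)).symm.trans
      (Matrix.GeneralLinearGroup.toLin).symm)

/-- Multiplication by a sign. -/
def signAut (F U : Type*) [Field F] [AddCommGroup U] [Module F U] : ℤˣ →* (U ≃ₗ[F] U) where
  toFun u := LinearEquiv.smulOfUnit (Units.map (Int.castRingHom F).toMonoidHom u)
  map_one' := by
    apply LinearEquiv.ext
    intro x
    show ((Units.map (Int.castRingHom F).toMonoidHom 1 : Fˣ) : F) • x = x
    simp
  map_mul' u v := by
    apply LinearEquiv.ext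
    intro x
    show ((Units.map (Int.castRingHom F).toMonoidHom (u * v) : Fˣ) : F) • x =
      ((Units.map (Int.castRingHom F).toMonoidHom u : Fˣ) : F) •
        (((Units.map (Int.castRingHom F).toMonoidHom v : Fˣ) : F) • x)
    rw [smul_smul, map_mul, Units.val_mul]

theorem signAut_apply (u : ℤˣ) (x : U) : signAut F U u x = ((u : ℤ) : F) • x := rfl

theorem signAut_comm (u : ℤˣ) (φ : U ≃ₗ[F] U) : φ * signAut F U u = signAut F U u * φ := by
  apply LinearEquiv.ext
  intro x
  show φ (((u : ℤ) : F) • x) = ((u : ℤ) : F) • φ x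
  rw [map_smul]

theorem signAut_injective [Nontrivial U] (h2 : (2 : F) ≠ 0) :
    Function.Injective (signAut F U) := by
  intro u v h
  obtain ⟨x, hx⟩ := exists_ne (0 : U)
  have h' := LinearEquiv.congr_fun h x
  rw [signAut_apply, signAut_apply] at h'
  have h'' := smul_left_injective F hx h'
  rcases Int.units_eq_one_or u with rfl | rfl <;> rcases Int.units_eq_one_or v with rfl | rfl
  · rfl
  · exact absurd (by simp at h''; linear_combination h'') h2
  · exact absurd (by simp at h''; linear_combination -h'') h2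
  · rfl

theorem sign_mem_sylow [Finite (U ≃ₗ[F] U)] (R : Sylow 2 (U ≃ₗ[F] U)) (u : ℤˣ) :
    signAut F U u ∈ (R : Subgroup (U ≃ₗ[F] U)) := by
  haveI : (signAut F U).range.Normal := ⟨fun y hy g => by
    obtain ⟨v, rfl⟩ := hy
    exact ⟨v, by rw [signAut_comm, mul_inv_cancel_right]⟩⟩
  have hZ : IsPGroup 2 (signAut F U).range := fun y => ⟨1, by
    obtain ⟨_, v, rfl⟩ := y
    refine Subtype.ext ?_
    show signAut F U v ^ 2 ^ 1 = 1
    rw [pow_one, ← map_pow, Int.units_sq, map_one]⟩
  have h := R.is_maximal' (R.2.to_sup_of_normal_right hZ) le_sup_left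
  rw [← h]
  exact Subgroup.mem_sup_right ⟨u, rfl⟩

end Aut

section Mono

variable {F : Type*} [Field F] {U U₀ : Type*} [AddCommGroup U] [Module F U] [AddCommGroup U₀]
  [Module F U₀] {h : ℕ} (R : Subgroup (U ≃ₗ[F] U)) (T : Subgroup (Equiv.Perm (Fin h)))
  (R₀ : Subgroup (U₀ ≃ₗ[F] U₀))

/-- The monomial action of a wreath product. -/
def monoLE (w : Wr R (Fin h) T) : (Fin h → U) ≃ₗ[F] (Fin h → U) where
  toFun v i := (w.left i : U ≃ₗ[F] U) (v (((w.right : Equiv.Perm (Fin h)))⁻¹ i))
  map_add' v v' := funext fun i => map_add _ _ _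
  map_smul' c v := funext fun i => map_smul _ _ _
  invFun v k := (w.left ((w.right : Equiv.Perm (Fin h)) k) : U ≃ₗ[F] U).symm
    (v ((w.right : Equiv.Perm (Fin h)) k))
  left_inv v := funext fun k => by simp
  right_inv v := funext fun i => by simp

theorem monoLE_apply (w : Wr R (Fin h) T) (v : Fin h → U) (i : Fin h) :
    monoLE R T w v i = (w.left i : U ≃ₗ[F] U) (v (((w.right : Equiv.Perm (Fin h)))⁻¹ i)) := rfl

/-- The monomial representation, as a homomorphism. -/
def monoHom : Wr R (Fin h) T × R₀ →* (((Fin h → U) × U₀) ≃ₗ[F] ((Fin h → U) × U₀)) where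
  toFun x := (monoLE R T x.1).prodCongr (x.2 : U₀ ≃ₗ[F] U₀)
  map_one' := by
    apply LinearEquiv.ext
    rintro ⟨v, u⟩
    exact Prod.ext (funext fun i => rfl) rfl
  map_mul' x y := by
    apply LinearEquiv.ext
    rintro ⟨v, u⟩
    refine Prod.ext (funext fun i => ?_) rfl
    show monoLE R T (x.1 * y.1) v i = monoLE R T x.1 (monoLE R T y.1 v) i
    rw [monoLE_apply, monoLE_apply, monoLE_apply, SemidirectProduct.mul_left, Pi.mul_apply,
      arrow_apply]
    rfl

theorem monoHom_apply (x : Wr R (Fin h) T × R₀) (v : Fin h → U) (u : U₀) :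
    monoHom R T R₀ x (v, u) = (monoLE R T x.1 v, (x.2 : U₀ ≃ₗ[F] U₀) u) := rfl

theorem monoHom_injective [Nontrivial U] : Function.Injective (monoHom R T R₀) := by
  classical
  rw [injective_iff_map_eq_one]
  intro x hx
  obtain ⟨u₁, hu₁⟩ := exists_ne (0 : U)
  have hp : ∀ (v : Fin h → U) (i : Fin h),
      (x.1.left i : U ≃ₗ[F] U) (v (((x.1.right : Equiv.Perm (Fin h)))⁻¹ i)) = v i := fun v i =>
    congrFun (congrArg Prod.fst (LinearEquiv.congr_fun hx (v, 0))) i
  have hσ : (x.1.right : Equiv.Perm (Fin h)) = 1 := by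
    refine inv_eq_one.1 (Equiv.ext fun i => ?_)
    by_contra hne
    have := hp (Pi.single i u₁) i
    rw [Pi.single_eq_of_ne (show ((x.1.right : Equiv.Perm (Fin h)))⁻¹ i ≠ i from hne), map_zero, Pi.single_eq_same] at this
    exact hu₁ this.symm
  refine Prod.ext (SemidirectProduct.ext ?_ (Subtype.ext hσ)) ?_
  · funext i
    refine Subtype.ext (LinearEquiv.ext fun u => ?_)
    have := hp (fun _ => u) i
    exact this
  · refine Subtype.ext (LinearEquiv.ext fun u => ?_)
    exact congrArg Prod.snd (LinearEquiv.congr_fun hx (0, u))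

end Mono

/-- In a Sylow two-subgroup of `GL_n`, a normal sign subgroup with one sign per block. -/
theorem exists_normal_signs {F : Type*} [Field F] [Fintype F] (hodd : Odd (Fintype.card F))
    {n d h e : ℕ} (hd : 1 ≤ d) (hn : n = h * d + e) (he : e ≤ 1)
    (hord : h * (Nat.card (GL (Fin d) F)).factorization 2 + h.factorial.factorization 2 +
        (Nat.card (GL (Fin e) F)).factorization 2 = (Nat.card (GL (Fin n) F)).factorization 2)
    (S : Sylow 2 (GL (Fin n) F)) :
    ∃ E : Subgroup ↥(S : Subgroup (GL (Fin n) F)), E.Normal ∧ IsMulCommutative E ∧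
      (∀ x : E, x ^ 2 = 1) ∧ 2 ^ (h + e) ≤ Nat.card E := by
  classical
  have h2 : (2 : F) ≠ 0 := by
    intro h0
    have hdvd : ringChar F ∣ 2 := ringChar.dvd (by exact_mod_cast h0)
    have hp : ringChar F = 2 := (Nat.prime_dvd_prime_iff_eq (CharP.char_is_prime F (ringChar F))
      Nat.prime_two).1 hdvd
    exact (Nat.not_even_iff_odd.2 hodd) ((FiniteField.even_card_iff_char_two.1 hp) |>
      fun h => Nat.even_iff.2 h)
  have hU : Module.finrank F (Fin d → F) = d := Module.finrank_fin_fun F
  have hU₀ : Module.finrank F (Fin e → F) = e := Module.finrank_fin_fun F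
  haveI : Nonempty (Fin d) := ⟨⟨0, hd⟩⟩
  haveI : Finite ((Fin d → F) ≃ₗ[F] (Fin d → F)) := Finite.of_equiv _ (autGL hU).symm.toEquiv
  haveI : Finite ((Fin e → F) ≃ₗ[F] (Fin e → F)) := Finite.of_equiv _ (autGL hU₀).symm.toEquiv
  obtain ⟨R⟩ : Nonempty (Sylow 2 ((Fin d → F) ≃ₗ[F] (Fin d → F))) := inferInstance
  obtain ⟨R₀⟩ : Nonempty (Sylow 2 ((Fin e → F) ≃ₗ[F] (Fin e → F))) := inferInstance
  obtain ⟨T⟩ : Nonempty (Sylow 2 (Equiv.Perm (Fin h))) := inferInstance
  have hsR : ∀ (u : ℤˣ), signAut F (Fin d → F) u ∈ R.toSubgroup := sign_mem_sylow R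
  have hsR₀ : ∀ (u : ℤˣ), signAut F (Fin e → F) u ∈ R₀.toSubgroup := sign_mem_sylow R₀
  let sR : ℤˣ →* R.toSubgroup := (signAut F (Fin d → F)).codRestrict _ hsR
  let sR₀ : ℤˣ →* R₀.toSubgroup := (signAut F (Fin e → F)).codRestrict _ hsR₀
  have hfr : Module.finrank F ((Fin h → Fin d → F) × (Fin e → F)) = n := by
    rw [Module.finrank_prod, Module.finrank_pi_fintype, hU₀]
    simp [hn]
  let f : Wr R.toSubgroup (Fin h) T.toSubgroup × R₀.toSubgroup →* GL (Fin n) F :=
    (autGL hfr).toMonoidHom.comp (monoHom R.toSubgroup T.toSubgroup R₀.toSubgroup)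
  have hf : Function.Injective f :=
    (autGL hfr).injective.comp (monoHom_injective R.toSubgroup T.toSubgroup R₀.toSubgroup)
  have hcard : Nat.card (Wr R.toSubgroup (Fin h) T.toSubgroup × R₀.toSubgroup) =
      2 ^ (Nat.card (GL (Fin n) F)).factorization 2 := by
    rw [Nat.card_prod, SemidirectProduct.card, Nat.card_fun, Nat.card_fin, R.card_eq_multiplicity,
      R₀.card_eq_multiplicity, T.card_eq_multiplicity, Nat.card_congr (autGL hU).toEquiv,
      Nat.card_congr (autGL hU₀).toEquiv, Nat.card_perm, Nat.card_fin, ← pow_mul, ← pow_add,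
      ← pow_add, ← hord]
    congr 1
    ring
  obtain ⟨eS⟩ := equiv_sylow f hf hcard S
  let η : (Fin h → ℤˣ) × (Fin e → ℤˣ) →*
      Wr R.toSubgroup (Fin h) T.toSubgroup × R₀.toSubgroup :=
    MonoidHom.prodMap
      (SemidirectProduct.inl.comp (sR.compLeft (Fin h)))
      (sR₀.comp { toFun := fun v => ∏ i, v i, map_one' := by simp, map_mul' := fun a b => by simp [Finset.prod_mul_distrib] })
  have hη : Function.Injective η := by
    intro a b hab
    have h1 := congrArg Prod.fst hab
    have h2' := congrArg Prod.snd hab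
    refine Prod.ext (funext fun i => ?_) (funext fun i => ?_)
    · have := congrArg (fun w => ((SemidirectProduct.left w) i : (Fin d → F) ≃ₗ[F] (Fin d → F))) h1
      exact signAut_injective h2 this
    · haveI : Unique (Fin e) := by
        obtain rfl : e = 1 := by have := i.2; omega
        infer_instance
      have := congrArg Subtype.val h2'
      simp only [η, MonoidHom.prodMap, MonoidHom.prod_apply, MonoidHom.comp_apply,
        MonoidHom.coe_fst, MonoidHom.coe_snd] at this
      have := signAut_injective (U := Fin e → F) h2 this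
      simpa [Subsingleton.elim default i] using this
  have hnorm : η.range.Normal := by
    refine ⟨fun y hy g => ?_⟩
    obtain ⟨a, rfl⟩ := hy
    refine ⟨(fun i => a.1 (((g.1.right : Equiv.Perm (Fin h)))⁻¹ i), a.2), ?_⟩
    rw [eq_mul_inv_iff_mul_eq]
    refine Prod.ext (SemidirectProduct.ext ?_ ?_) ?_
    · funext i
      refine Subtype.ext ?_
      simp only [η, Prod.fst_mul, SemidirectProduct.mul_left, Pi.mul_apply, Subgroup.coe_mul,
        arrow_apply]
      simp [MonoidHom.prodMap, sR, MonoidHom.compLeft, signAut_comm]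
      rfl
    · simp [η, MonoidHom.prodMap]
    · refine Subtype.ext ?_
      simp [η, MonoidHom.prodMap, sR₀, signAut_comm]
  refine ⟨η.range.map eS.toMonoidHom, hnorm.map _ eS.surjective, ⟨⟨?_⟩⟩, ?_, ?_⟩
  · rintro ⟨_, _, ⟨a, rfl⟩, rfl⟩ ⟨_, _, ⟨b, rfl⟩, rfl⟩
    refine Subtype.ext ?_
    show eS.toMonoidHom (η a) * eS.toMonoidHom (η b) = eS.toMonoidHom (η b) * eS.toMonoidHom (η a)
    rw [← map_mul, ← map_mul, ← map_mul, ← map_mul, mul_comm a b]
  · rintro ⟨_, _, ⟨a, rfl⟩, rfl⟩
    refine Subtype.ext ?_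
    show eS.toMonoidHom (η a) ^ 2 = 1
    have ha : a ^ 2 = 1 := Prod.ext (funext fun i => Int.units_sq _) (funext fun i => Int.units_sq _)
    rw [← map_pow, ← map_pow, ha, map_one, map_one]
  · rw [Subgroup.card_map_of_injective eS.injective,
      ← Nat.card_congr (MonoidHom.ofInjective hη).toEquiv]
    simp [Nat.card_prod, Nat.card_fun, pow_add]

end Cfsg.Agent.Classical.NormalRank
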