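import Mathlib

/-!
Weight spaces of an elementary abelian normal two-subgroup of a linear group in odd characteristic.
-/

set_option autoImplicit false
set_option linter.unusedSectionVars false

namespace Cfsg.Agent.Classical.NormalRank

section

variable {F V G : Type*} [Field F] [Fintype F] [AddCommGroup V] [Module F V]
  [FiniteDimensional F V] [Group G] [Finite G] (ρ : G →* (V ≃ₗ[F] V)) (E : Subgroup G) [Fintype E]

/-- The sign of a weight. -/
def sgn {E' : Type*} [Group E'] (l : E' →* ℤˣ) (e : E') : F := ((l e : ℤ) : F)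

theorem sgn_mul {E' : Type*} [Group E'] (l : E' →* ℤˣ) (a b : E') :
    sgn (F := F) l (a * b) = sgn l a * sgn l b := by
  simp [sgn]

theorem sgn_sq {E' : Type*} [Group E'] (l : E' →* ℤˣ) (a : E') :
    sgn (F := F) l a * sgn l a = 1 := by
  rcases Int.units_eq_one_or (l a) with h | h <;> simp [sgn, h]

/-- The projection to a weight space. -/
noncomputable def proj (l : E →* ℤˣ) : V →ₗ[F] V :=
  (Fintype.card E : F)⁻¹ • ∑ e : E, sgn (F := F) l e • (ρ (e : G) : V →ₗ[F] V)

theorem proj_apply (l : E →* ℤˣ) (v : V) :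
    proj ρ E l v = (Fintype.card E : F)⁻¹ • ∑ e : E, sgn (F := F) l e • ρ (e : G) v := by
  simp [proj]

variable (hG : IsPGroup 2 G) (h2 : (2 : F) ≠ 0) (hsq : ∀ e : E, e ^ 2 = 1)

include hG h2 in
theorem card_ne_zero : (Fintype.card E : F) ≠ 0 := by
  obtain ⟨k, hk⟩ := IsPGroup.iff_card.1 (hG.to_subgroup E)
  rw [← Nat.card_eq_fintype_card, hk]
  push_cast
  exact pow_ne_zero _ h2

theorem weight (l : E →* ℤˣ) (v : V) (a : E) :
    ρ (a : G) (proj ρ E l v) = sgn (F := F) l a • proj ρ E l v := by
  rw [proj_apply, map_smul, map_sum, smul_comm (sgn (F := F) l a)]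
  congr 1
  rw [Finset.smul_sum]
  refine Fintype.sum_equiv (Equiv.mulLeft a) _ _ fun e => ?_
  rw [map_smul, smul_smul, Equiv.coe_mulLeft, sgn_mul, ← mul_assoc, sgn_sq, one_mul,
    Subgroup.coe_mul, map_mul]
  rfl

include hG h2 in
theorem proj_weight (l m : E →* ℤˣ) [Decidable (l = m)] (v : V)
    (hv : ∀ a : E, ρ (a : G) v = sgn (F := F) m a • v) :
    proj ρ E l v = if l = m then v else 0 := by
  rw [proj_apply]
  simp only [hv, smul_smul]
  rw [← Finset.sum_smul]
  split_ifs with h
  · subst h
    simp only [sgn_sq, Finset.sum_const, Finset.card_univ, nsmul_eq_mul, mul_one]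
    rw [smul_smul, inv_mul_cancel₀ (card_ne_zero E hG h2), one_smul]
  · let f : E →* F :=
      { toFun := fun e => sgn l e * sgn m e
        map_one' := by simp [sgn]
        map_mul' := fun a b => by simp only [sgn_mul]; ring }
    have hf : f ≠ 1 := by
      intro hf
      apply h
      refine MonoidHom.ext fun e => ?_
      have := DFunLike.congr_fun hf e
      simp only [f, MonoidHom.coe_mk, OneHom.coe_mk, MonoidHom.one_apply, sgn] at this
      rcases Int.units_eq_one_or (l e) with h1 | h1 <;> rcases Int.units_eq_one_or (m e) with h3 | h3 <;>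
        simp [h1, h3] at this ⊢
      all_goals exact absurd (by linear_combination -this) h2
    have := sum_hom_units_eq_zero f hf
    simp only [f, MonoidHom.coe_mk, OneHom.coe_mk] at this
    rw [this, zero_smul, smul_zero]

include hG h2 hsq in
theorem sum_proj [IsMulCommutative E] [Fintype (E →* ℤˣ)] (v : V) :
    ∑ l : E →* ℤˣ, proj ρ E l v = v := by
  classical
  letI : CommGroup E := { (inferInstance : Group E) with mul_comm := fun a b => Std.Commutative.comm a b }
  haveI : HasEnoughRootsOfUnity ℤ 2 := by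
    refine ⟨⟨-1, IsPrimitiveRoot.neg_one 0 (by norm_num)⟩, ?_⟩
    exact rootsOfUnity.isCyclic ℤ 2
  haveI : HasEnoughRootsOfUnity ℤ (Monoid.exponent E) :=
    HasEnoughRootsOfUnity.of_dvd ℤ (Monoid.exponent_dvd_of_forall_pow_eq_one hsq)
  have hcard : Fintype.card (E →* ℤˣ) = Fintype.card E := by
    obtain ⟨φ⟩ := CommGroup.monoidHom_mulEquiv_of_hasEnoughRootsOfUnity E ℤ
    exact Fintype.card_congr φ.toEquiv
  simp only [proj_apply]
  rw [← Finset.smul_sum, Finset.sum_comm]
  simp only [← Finset.sum_smul]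
  rw [Finset.sum_eq_single (1 : E)]
  · have h1 : ∑ l : E →* ℤˣ, sgn (F := F) l (1 : E) = (Fintype.card E : F) := by
      simp [sgn, hcard]
    rw [h1, smul_smul, inv_mul_cancel₀ (card_ne_zero E hG h2), one_smul, OneMemClass.coe_one, map_one]
    rfl
  · intro e _ he
    obtain ⟨l₀, hl₀⟩ := CommGroup.exists_apply_ne_one_of_hasEnoughRootsOfUnity E ℤ he
    have hl : l₀ e = -1 := (Int.units_eq_one_or _).resolve_left hl₀
    have hs : ∑ l : E →* ℤˣ, sgn (F := F) l e = -∑ l : E →* ℤˣ, sgn (F := F) l e := by
      rw [← Finset.sum_neg_distrib]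
      refine Fintype.sum_equiv (Equiv.mulRight l₀) _ _ fun l => ?_
      simp [sgn, hl]
    have h0 : (2 : F) * ∑ l : E →* ℤˣ, sgn (F := F) l e = 0 := by linear_combination hs
    rw [(mul_eq_zero.1 h0).resolve_left h2, zero_smul]
  · exact fun h => absurd (Finset.mem_univ _) h

theorem proj_conj [hE : E.Normal] (l : E →* ℤˣ) (g : G) (v : V) :
    ρ g (proj ρ E l v) = proj ρ E (l.comp (MulAut.conjNormal (H := E) g⁻¹).toMonoidHom) (ρ g v) := by
  rw [proj_apply, proj_apply, map_smul, map_sum]
  congr 1
  refine Fintype.sum_equiv (MulAut.conjNormal (H := E) g).toEquiv _ _ fun e => ?_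
  rw [map_smul]
  congr 1
  · simp [sgn, MulEquiv.toEquiv_eq_coe]
  · have : ((MulAut.conjNormal (H := E) g e : E) : G) = g * e * g⁻¹ := MulAut.conjNormal_apply g e
    show ρ g (ρ (e : G) v) = ρ (((MulAut.conjNormal (H := E) g e : E) : G)) (ρ g v)
    rw [this, ← LinearEquiv.mul_apply, ← map_mul, ← LinearEquiv.mul_apply, ← map_mul,
      inv_mul_cancel_right]

/-- A weight space. -/
noncomputable def space (l : E →* ℤˣ) : Submodule F V := LinearMap.range (proj ρ E l)

theorem space_weight {l : E →* ℤˣ} {v : V} (hv : v ∈ space ρ E l) (a : E) :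
    ρ (a : G) v = sgn (F := F) l a • v := by
  obtain ⟨w, rfl⟩ := hv
  exact weight ρ E l w a

variable [IsMulCommutative E] [Fintype (E →* ℤˣ)]

include hG h2 hsq in
theorem finrank_eq_sum : Module.finrank F V = ∑ l : E →* ℤˣ, Module.finrank F (space ρ E l) := by
  classical
  let e : V →ₗ[F] ((l : E →* ℤˣ) → space ρ E l) := LinearMap.pi fun l => (proj ρ E l).rangeRestrict
  have hb : Function.Bijective e := by
    refine ⟨fun v w h => ?_, fun x => ⟨∑ l, (x l : V), funext fun m => Subtype.ext ?_⟩⟩
    · rw [← sum_proj ρ E hG h2 hsq v, ← sum_proj ρ E hG h2 hsq w]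
      exact Finset.sum_congr rfl fun l _ => congrArg Subtype.val (congrFun h l)
    · show proj ρ E m (∑ l, (x l : V)) = (x m : V)
      rw [map_sum, Finset.sum_eq_single m]
      · rw [proj_weight ρ E hG h2 m m _ (space_weight ρ E (x m).2), if_pos rfl]
      · intro l _ hl
        rw [proj_weight ρ E hG h2 m l _ (space_weight ρ E (x l).2), if_neg (Ne.symm hl)]
      · simp
  rw [(LinearEquiv.ofBijective e hb).finrank_eq, Module.finrank_pi_fintype]

include hG h2 hsq in
theorem card_le_two_pow (hρ : Function.Injective ρ) [DecidableEq (Submodule F V)] :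
    Nat.card E ≤ 2 ^ (Finset.univ.filter fun l : E →* ℤˣ => space ρ E l ≠ ⊥).card := by
  classical
  set I := Finset.univ.filter fun l : E →* ℤˣ => space ρ E l ≠ ⊥
  have h : Function.Injective (fun (e : E) (l : I) => (l : E →* ℤˣ) e) := by
    intro a b hab
    refine Subtype.ext (hρ (LinearEquiv.ext fun v => ?_))
    rw [← sum_proj ρ E hG h2 hsq v, map_sum, map_sum]
    refine Finset.sum_congr rfl fun l _ => ?_
    rw [weight, weight]
    by_cases hl : space ρ E l = ⊥
    · have : proj ρ E l v = 0 := by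
        have hm : proj ρ E l v ∈ space ρ E l := ⟨v, rfl⟩
        rwa [hl, Submodule.mem_bot] at hm
      rw [this, smul_zero, smul_zero]
    · have := congrFun hab ⟨l, Finset.mem_filter.2 ⟨Finset.mem_univ _, hl⟩⟩
      simp only at this
      simp [sgn, this]
  refine (Nat.card_le_card_of_injective _ h).trans ?_
  simp

include hG h2 hsq in
theorem lines_dvd [E.Normal] (hρ : Function.Injective ρ) :
    ∃ r w : ℕ,
      r = (Finset.univ.filter fun l : E →* ℤˣ => Module.finrank F (space ρ E l) = 1).card ∧
      r + w = Module.finrank F V ∧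
      Nat.card G ∣ r.factorial * ((Fintype.card F - 1) ^ r *
        Nat.card ((Fin w → F) ≃ₗ[F] (Fin w → F))) := by
  classical
  set J : Finset (E →* ℤˣ) :=
    Finset.univ.filter fun l : E →* ℤˣ => Module.finrank F (space ρ E l) = 1 with hJ
  have hmap : ∀ (g : G) (l : E →* ℤˣ), (space ρ E l).map (ρ g : V →ₗ[F] V) =
      space ρ E (l.comp (MulAut.conjNormal (H := E) g⁻¹).toMonoidHom) := by
    intro g l
    ext v
    constructor
    · rintro ⟨_, ⟨u, rfl⟩, rfl⟩
      exact ⟨ρ g u, (proj_conj ρ E l g u).symm⟩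
    · rintro ⟨u, rfl⟩
      refine ⟨proj ρ E l ((ρ g).symm u), ⟨_, rfl⟩, ?_⟩
      show ρ g (proj ρ E l ((ρ g).symm u)) = _
      rw [proj_conj, LinearEquiv.apply_symm_apply]
  have hJinv : ∀ (g : G), ∀ l ∈ J, l.comp (MulAut.conjNormal (H := E) g⁻¹).toMonoidHom ∈ J := by
    intro g l hl
    rw [hJ, Finset.mem_filter] at hl ⊢
    refine ⟨Finset.mem_univ _, ?_⟩
    rw [← hmap, (Submodule.equivMapOfInjective (ρ g : V →ₗ[F] V) (ρ g).injective _).symm.finrank_eq,
      hl.2]
  letI act : MulAction G J :=
    { smul := fun g l => ⟨l.1.comp (MulAut.conjNormal (H := E) g⁻¹).toMonoidHom, hJinv g l l.2⟩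
      one_smul := fun l => Subtype.ext (MonoidHom.ext fun e => by
        show l.1 (MulAut.conjNormal (H := E) (1 : G)⁻¹ e) = l.1 e
        simp)
      mul_smul := fun g h l => Subtype.ext (MonoidHom.ext fun e => by
        show l.1 (MulAut.conjNormal (H := E) (g * h)⁻¹ e) =
          l.1 (MulAut.conjNormal (H := E) h⁻¹ (MulAut.conjNormal (H := E) g⁻¹ e))
        rw [mul_inv_rev, map_mul]
        rfl) }
  let π := MulAction.toPermHom G J
  set K := π.ker
  have hfix : ∀ k : K, ∀ l : J, (l.1.comp (MulAut.conjNormal (H := E) (k : G)⁻¹).toMonoidHom) = l.1 :=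
    fun k l => congrArg Subtype.val (Equiv.congr_fun (MonoidHom.mem_ker.1 k.2) l)
  -- the line scalars
  have hline : ∀ l : J, ∃ u : V, u ∈ space ρ E l.1 ∧ u ≠ 0 ∧
      ∀ v ∈ space ρ E l.1, ∃ c : F, c • u = v := by
    intro l
    have h1 : Module.finrank F (space ρ E l.1) = 1 := (Finset.mem_filter.1 l.2).2
    obtain ⟨u, hu, hu'⟩ := finrank_eq_one_iff'.1 h1
    refine ⟨u, u.2, fun h => hu (Subtype.ext h), fun v hv => ?_⟩
    obtain ⟨c, hc⟩ := hu' ⟨v, hv⟩
    exact ⟨c, congrArg Subtype.val hc⟩
  choose u hu hu0 huspan using hline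
  have hk : ∀ (k : K) (l : J), ∃ c : F, c • u l = ρ (k : G) (u l) := fun k l => huspan l _ (by
    have := hmap (k : G) l.1
    rw [hfix k l] at this
    rw [← this]
    exact Submodule.mem_map_of_mem (hu l))
  choose c hc using hk
  have hcu : ∀ (k : K) (l : J) (x : F), x • u l = ρ (k : G) (u l) → c k l = x := fun k l x hx =>
    smul_left_injective F (hu0 l) ((hc k l).trans hx.symm)
  have hc0 : ∀ k l, c k l ≠ 0 := fun k l h => by
    have := hc k l
    rw [h, zero_smul, eq_comm, LinearEquiv.map_eq_zero_iff] at this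
    exact hu0 l this
  let χ : K →* (J → Fˣ) :=
    { toFun := fun k l => Units.mk0 (c k l) (hc0 k l)
      map_one' := funext fun l => Units.ext (hcu 1 l 1 (by simp))
      map_mul' := fun a b => funext fun l => Units.ext (hcu (a * b) l _ (by
        show (c a l * c b l) • u l = _
        rw [Subgroup.coe_mul, map_mul, LinearEquiv.mul_apply, ← hc b l, map_smul, ← hc a l,
          smul_smul, mul_comm])) }
  -- the complement
  let P : V →ₗ[F] ((l : J) → space ρ E l.1) :=
    LinearMap.pi fun l : J => (proj ρ E l.1).rangeRestrict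
  set W := LinearMap.ker P
  have hWmem : ∀ v, v ∈ W ↔ ∀ l : J, proj ρ E l.1 v = 0 := fun v => by
    rw [LinearMap.mem_ker, funext_iff]
    exact forall_congr' fun l => Subtype.ext_iff
  have hP : Function.Surjective P := fun x => ⟨∑ l : J, (x l : V), funext fun m => Subtype.ext (by
    show proj ρ E m.1 (∑ l : J, (x l : V)) = (x m : V)
    rw [map_sum, Finset.sum_eq_single m]
    · rw [proj_weight ρ E hG h2 m.1 m.1 _ (space_weight ρ E (x m).2), if_pos rfl]
    · intro l _ hl
      rw [proj_weight ρ E hG h2 m.1 l.1 _ (space_weight ρ E (x l).2),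
        if_neg (fun e => hl (Subtype.ext e.symm))]
    · simp)⟩
  have hWdim : J.card + Module.finrank F W = Module.finrank F V := by
    have h1 := LinearMap.finrank_range_add_finrank_ker P
    rw [LinearMap.range_eq_top.2 hP, finrank_top, Module.finrank_pi_fintype,
      Finset.sum_congr rfl fun (l : J) _ => (Finset.mem_filter.1 l.2).2] at h1
    simpa using h1
  have hWinv : ∀ k : K, ∀ v ∈ W, ρ (k : G) v ∈ W := by
    intro k v hv
    rw [hWmem] at hv ⊢
    intro l
    rw [← hfix k l, ← proj_conj, hv l, map_zero]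
  let θ : K →* (W ≃ₗ[F] W) :=
    { toFun := fun k =>
        { toFun := fun v => ⟨ρ (k : G) v, hWinv k v v.2⟩
          map_add' := fun a b => Subtype.ext (map_add _ _ _)
          map_smul' := fun a b => Subtype.ext (map_smul _ _ _)
          invFun := fun v => ⟨ρ ((k⁻¹ : K) : G) v, hWinv k⁻¹ v v.2⟩
          left_inv := fun v => Subtype.ext (by
            show ρ ((k⁻¹ : K) : G) (ρ (k : G) v) = v
            rw [← LinearEquiv.mul_apply, ← map_mul]
            simp)
          right_inv := fun v => Subtype.ext (by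
            show ρ (k : G) (ρ ((k⁻¹ : K) : G) v) = v
            rw [← LinearEquiv.mul_apply, ← map_mul]
            simp) }
      map_one' := LinearEquiv.ext fun v => Subtype.ext (by simp)
      map_mul' := fun a b => LinearEquiv.ext fun v => Subtype.ext (by simp [LinearEquiv.mul_apply]) }
  haveI : Finite V := Module.finite_of_finite F
  haveI : Finite (W ≃ₗ[F] W) := Finite.of_injective _ DFunLike.coe_injective
  have hinj : Function.Injective (χ.prod θ) := by
    rw [injective_iff_map_eq_one]
    intro k hk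
    refine Subtype.ext (hρ ?_)
    rw [OneMemClass.coe_one, map_one]
    refine LinearEquiv.ext fun v => ?_
    set v' : V := v - ∑ l : J, proj ρ E l.1 v with hv'
    have hW' : v' ∈ W := (hWmem _).2 fun m => by
      rw [hv', map_sub, map_sum, Finset.sum_eq_single m, proj_weight ρ E hG h2 m.1 m.1 _
        (weight ρ E m.1 v), if_pos rfl, sub_self]
      · intro l _ hl
        rw [proj_weight ρ E hG h2 m.1 l.1 _ (weight ρ E l.1 v),
          if_neg (fun e => hl (Subtype.ext e.symm))]
      · simp
    have h1 : ρ (k : G) v' = v' :=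
      congrArg Subtype.val (LinearEquiv.congr_fun (congrArg Prod.snd hk) ⟨v', hW'⟩)
    have hl : ∀ l : J, ρ (k : G) (proj ρ E l.1 v) = proj ρ E l.1 v := by
      intro l
      obtain ⟨x, hx⟩ := huspan l _ ⟨v, rfl⟩
      have hck : c k l = 1 := congrArg Units.val (congrFun (congrArg Prod.fst hk) l)
      rw [← hx, map_smul, ← hc k l, hck, one_smul]
    show ρ (k : G) v = v
    have : v = v' + ∑ l : J, proj ρ E l.1 v := by rw [hv', sub_add_cancel]
    rw [this, map_add, map_sum, h1, Finset.sum_congr rfl fun l _ => hl l]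
  refine ⟨J.card, Module.finrank F W, rfl, hWdim, ?_⟩
  have hK : Nat.card K ∣ (Fintype.card F - 1) ^ J.card *
      Nat.card ((Fin (Module.finrank F W) → F) ≃ₗ[F] (Fin (Module.finrank F W) → F)) := by
    have h := Subgroup.card_dvd_of_injective (χ.prod θ) hinj
    let e := LinearEquiv.ofFinrankEq W (Fin (Module.finrank F W) → F) (Module.finrank_fin_fun F).symm
    rw [Nat.card_prod, Nat.card_fun, Nat.card_eq_fintype_card (α := J), Fintype.card_coe, Nat.card_units,
      Nat.card_eq_fintype_card (α := F), Nat.card_congr (β := (Fin (Module.finrank F W) → F) ≃ₗ[F]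
        (Fin (Module.finrank F W) → F))
        { toFun := fun f => (e.symm.trans f).trans e
          invFun := fun f => (e.trans f).trans e.symm
          left_inv := fun f => by ext; simp
          right_inv := fun f => by ext; simp }] at h
    exact h
  rw [← K.card_mul_index, mul_comm J.card.factorial]
  refine Nat.mul_dvd_mul hK ?_
  rw [Subgroup.index_ker]
  refine (Subgroup.card_subgroup_dvd_card π.range).trans ?_
  rw [Nat.card_perm, Nat.card_eq_fintype_card, Fintype.card_coe]

end

end Cfsg.Agent.Classical.NormalRank
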